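import Cfsg.Agent.Lib.Fi22TE6.Code
import Cfsg.Agent.Lib.Fi22TE6.Data
import Cfsg.Prelude.Def_Spor_Fi22

/-!
Kernel evaluations on the packed matrices.
-/

set_option autoImplicit false
set_option maxRecDepth 20000

namespace Cfsg.Agent.Lib.Fi22TE6

open Cfsg.Spor

/-- product of matrices along a word -/
noncomputable def wordC (Ms : List (List ℕ)) : List ℕ → List ℕ
  | [] => oneC
  | [i] => Ms.getD i oneC
  | i :: j :: w => mulR (Ms.getD i oneC) (wordC Ms (j :: w))

/-- powers -/
noncomputable def powC (M : List ℕ) : ℕ → List ℕ
  | 0 => oneC
  | 1 => M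
  | n + 2 => mulR M (powC M (n + 1))

/-- image of a vector along a word -/
noncomputable def spinV (w : List ℕ) : ℕ := w.foldr (fun i v => appR (prepR (nodeMats.getD i oneC)) v) vFix

/-- the number of a generator of Fi22 -/
def genIx : Fi22.Gen → ℕ
  | .a => 0
  | .b => 1
  | .c => 2
  | .d => 3
  | .e => 4
  | .f => 5
  | .g => 6
  | .h => 7
  | .i => 8

/-- all generators -/
def allGen : List Fi22.Gen := [.a, .b, .c, .d, .e, .f, .g, .h, .i]

theorem mem_allGen (x : Fi22.Gen) : x ∈ allGen := by cases x <;> simp [allGen]

/-- word in the twelve generators behind a node -/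
def fullW (i : ℕ) : List ℕ := nodeW.getD i [] ++ 0 :: (nodeW.getD i []).reverse

/-- `vFix` in the pivot column -/
def pivC : List ℕ := (List.range 78).map fun c => bif Nat.beq c vPiv then vFix else 0

/-- the sum of three words -/
noncomputable def sumC : List ℕ :=
  addC (wordC nodeMats [1, 3, 7, 4]) (addC (wordC nodeMats [5, 2]) (wordC nodeMats [5]))

/-- matrix of the generator of a specification -/
noncomputable def specC (s : ℕ × ℕ × ℕ) : List ℕ :=
  bif Nat.beq s.1 s.2.1 then xC s.1 s.2.2 else mulR (xC s.1 s.2.2) (xC s.2.1 (2 * s.2.2))

theorem gen_lengths : genMats.all (fun M => M.length == 78) = true := by decide +kernel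

theorem node_lengths : nodeMats.all (fun M => M.length == 78) = true := by decide +kernel

theorem gen_spec : genMats = genSpec.map specC := by decide +kernel

theorem gen_sq : genMats.all (fun M => mulR M M == oneC) = true := by decide +kernel

theorem node_sq : nodeMats.all (fun M => mulR M M == oneC) = true := by decide +kernel

theorem node_word : nodeMats = (List.range 9).map (fun i => wordC genMats (fullW i)) := by decide +kernel

theorem node_cox : allGen.all (fun x => allGen.all fun y =>
    powC (mulR (nodeMats.getD (genIx x) oneC) (nodeMats.getD (genIx y) oneC)) (coxLabel Fi22.edges x y) == oneC) =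
      true := by decide +kernel

theorem node_extra1 : powC (wordC nodeMats [3, 2, 1, 3, 4, 5, 3, 7, 8]) 10 = oneC := by decide +kernel

theorem node_extra2 : powC (wordC nodeMats [0, 1, 2, 3, 4, 5, 7]) 9 = oneC := by decide +kernel

theorem node_extra3 : powC (wordC nodeMats [1, 2, 3, 4, 5, 6, 7]) 9 = oneC := by decide +kernel

theorem left_ok : addC (mulR leftM sumC) pivC = oneC := by decide +kernel

theorem left_length : leftM.length = 78 := by decide +kernel

theorem sum_fix : appR (prepR sumC) vFix = 0 := by decide +kernel

theorem spin_ok : mulR (spinW.map spinV) spinInv = oneC := by decide +kernel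

theorem spin_length : spinW.length = 78 ∧ spinInv.length = 78 := by decide +kernel

theorem spin_range : spinW.all (fun w => w.all fun i => decide (1 ≤ i ∧ i ≤ 8)) = true := by decide +kernel

theorem spec_small : genSpec.all (fun s => decide (s.1 < 72 ∧ s.2.1 < 72)) = true := by decide +kernel

end Cfsg.Agent.Lib.Fi22TE6
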