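import Cfsg.Agent.Lib.Chev16.F4InE6

/-!
Packed matrices over a field with four elements at the coordinates of type E6, for evaluation in the kernel.

A vector is a number: bit `c` and bit `80 + c` are the coordinates over the prime field at the code `c`
(roots `0..71`, then the Cartan part) with respect to `1, ω`, where `ω * ω = ω + 1`.
A matrix is the list of its 78 columns.
-/

set_option autoImplicit false

namespace Cfsg.Agent.Lib.Fi22TE6

open Cfsg.Lie Cfsg.Agent.Lib.Chev Cfsg.Agent.Lib.Chev16
open scoped Matrix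

/-- the low mask -/
def mask : ℕ := 1208925819614629174706175

/-- vector with given low and high part -/
def mk (l h : ℕ) : ℕ := (l &&& mask) ^^^ (h <<< 80)

/-- multiplication by `ω` -/
def scal2 (v : ℕ) : ℕ := mk (v >>> 80) ((v &&& mask) ^^^ (v >>> 80))

/-- matrix times vector -/
def appAux : List ℕ → ℕ → ℕ
  | [], _ => 0
  | col :: rest, v =>
    (bif Nat.testBit v 0 then col else 0) ^^^ (bif Nat.testBit v 80 then scal2 col else 0) ^^^
      appAux rest (v >>> 1)

/-- product of matrices -/
def mulC (M N : List ℕ) : List ℕ := N.map (appAux M)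

/-- unit matrix -/
def oneC : List ℕ := (List.range 78).map fun c => 1 <<< c

/-- sum of matrices -/
def addC (M N : List ℕ) : List ℕ := List.zipWith (fun a b => a ^^^ b) M N

/-- sum of vectors -/
def xorL : List ℕ → ℕ
  | [] => 0
  | a :: l => a ^^^ xorL l

/-- multiplication by a power of `ω` -/
def powS : ℕ → ℕ → ℕ
  | 0, v => v
  | n + 1, v => scal2 (powS n v)

/-- reduction of an integer multiple -/
def parC (z : ℤ) (v : ℕ) : ℕ := bif Nat.beq (z.natAbs % 2) 1 then v else 0

/-- column `c` of `x_r(ω^e)` -/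
def colOf (r e c : ℕ) : ℕ :=
  xorL ((List.range 4).flatMap fun k =>
    (eCol chevE6 E6.cert r c k).map fun q => powS (e * k) (parC q.2 (1 <<< q.1)))

/-- matrix of `x_r(ω^e)` -/
def xC (r e : ℕ) : List ℕ := (List.range 78).map (colOf r e)

theorem mask_testBit (c : ℕ) : Nat.testBit mask c = decide (c < 80) := by
  rw [show mask = 2 ^ 80 - 1 from rfl, Nat.testBit_two_pow_sub_one]

theorem mk_lo {l h c : ℕ} (hc : c < 80) : Nat.testBit (mk l h) c = Nat.testBit l c := by
  rw [mk, Nat.testBit_xor, Nat.testBit_and, mask_testBit, Nat.testBit_shiftLeft]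
  simp [hc, show ¬ 80 ≤ c by omega]

theorem mk_hi (l h c : ℕ) : Nat.testBit (mk l h) (80 + c) = Nat.testBit h c := by
  rw [mk, Nat.testBit_xor, Nat.testBit_and, mask_testBit, Nat.testBit_shiftLeft]
  simp [show ¬ 80 + c < 80 by omega]

section Field

variable {K : Type*} [Field K] (ω : K)

/-- value of two bits -/
def pval (a b : Bool) : K := (bif a then 1 else 0) + bif b then ω else 0

/-- coordinate `c` of a vector -/
def phi (v c : ℕ) : K := pval ω (Nat.testBit v c) (Nat.testBit v (80 + c))

/-- the vector -/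
def vec (v : ℕ) : chevE6.Idx → K := fun x => phi ω v (idxCode chevE6 x)

/-- the matrix -/
def mat (M : List ℕ) : Matrix chevE6.Idx chevE6.Idx K :=
  Matrix.of fun i j => phi ω (M.getD (idxCode chevE6 j) 0) (idxCode chevE6 i)

theorem phi_zero (c : ℕ) : phi ω 0 c = 0 := by simp [phi, pval]

variable [CharP K 2]

theorem bit_xor (a b : Bool) :
    (bif (a != b) then (1 : K) else 0) = (bif a then 1 else 0) + bif b then 1 else 0 := by
  cases a <;> cases b <;> simp [CharTwo.add_self_eq_zero (1 : K)]

omit [CharP K 2] in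
theorem pval_eq (a b : Bool) :
    pval ω a b = (bif a then 1 else 0) + (bif b then 1 else 0) * ω := by
  cases b <;> simp [pval]

theorem phi_xor (u v c : ℕ) : phi ω (u ^^^ v) c = phi ω u c + phi ω v c := by
  simp only [phi, Nat.testBit_xor, pval_eq, bit_xor]
  ring

variable (hω : ω * ω = ω + 1)
include hω

theorem phi_scal2 (v : ℕ) {c : ℕ} (hc : c < 80) : phi ω (scal2 v) c = ω * phi ω v c := by
  have h1 : Nat.testBit (scal2 v) c = Nat.testBit v (80 + c) := by
    rw [scal2, mk_lo hc, Nat.testBit_shiftRight]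
  have h2 : Nat.testBit (scal2 v) (80 + c) = (Nat.testBit v c != Nat.testBit v (80 + c)) := by
    rw [scal2, mk_hi, Nat.testBit_xor, Nat.testBit_and, mask_testBit, Nat.testBit_shiftRight]
    simp [hc]
  simp only [phi, h1, h2, pval_eq, bit_xor]
  linear_combination -(bif Nat.testBit v (80 + c) then (1 : K) else 0) * hω

theorem phi_appAux : ∀ (L : List ℕ) (v k : ℕ) {c : ℕ}, c < 80 →
    phi ω (appAux L (v >>> k)) c = ∑ i ∈ Finset.range L.length, phi ω v (k + i) * phi ω (L.getD i 0) c
  | [], v, k, c, _ => by simp [appAux, phi_zero]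
  | col :: rest, v, k, c, hc => by
    have ih := phi_appAux rest v (k + 1) hc
    rw [appAux, phi_xor, phi_xor, ← Nat.shiftRight_add, ih, Nat.testBit_shiftRight,
      Nat.testBit_shiftRight, List.length_cons, Finset.sum_range_succ' _ rest.length]
    simp only [List.getD_cons_succ, List.getD_cons_zero, add_zero, Nat.add_comm k 80]
    have : ∀ i, k + 1 + i = k + (i + 1) := fun i => by omega
    simp only [this]
    rw [add_comm (∑ i ∈ Finset.range rest.length, _)]
    congr 1
    show _ = pval ω (Nat.testBit v k) (Nat.testBit v (80 + k)) * phi ω col c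
    cases Nat.testBit v k <;> cases Nat.testBit v (80 + k) <;>
      simp [pval, phi_zero, phi_scal2 ω hω col hc, add_mul]

omit hω in
theorem sum_idxCode (f : ℕ → K) :
    ∑ x : chevE6.Idx, f (idxCode chevE6 x) = ∑ i ∈ Finset.range 78, f i := by
  refine Finset.sum_bij (fun x _ => idxCode chevE6 x) (fun x _ => ?_) (fun a _ b _ e => idxCode_inj e)
    (fun c hc => ?_) fun x _ => rfl
  · exact Finset.mem_range.2 (idxCode_lt x)
  · obtain ⟨x, hx⟩ := exists_idxCode (D := chevE6) (Finset.mem_range.1 hc)
    exact ⟨x, Finset.mem_univ _, hx⟩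

omit [CharP K 2] hω in
theorem lt78 (x : chevE6.Idx) : idxCode chevE6 x < 78 := idxCode_lt x

omit [CharP K 2] hω in
theorem lt80 (x : chevE6.Idx) : idxCode chevE6 x < 80 :=
  lt_of_lt_of_le (idxCode_lt x) (by decide)

theorem vec_appAux {M : List ℕ} (hM : M.length = 78) (v : ℕ) :
    vec ω (appAux M v) = mat ω M *ᵥ vec ω v := by
  funext x
  have h := phi_appAux ω hω M v 0 (lt80 x)
  rw [Nat.shiftRight_zero, hM] at h
  show phi ω (appAux M v) _ = _
  rw [h, ← sum_idxCode fun i => phi ω v (0 + i) * phi ω (M.getD i 0) (idxCode chevE6 x)]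
  simp only [Matrix.mulVec, dotProduct, mat, Matrix.of_apply, vec, zero_add]
  exact Finset.sum_congr rfl fun i _ => mul_comm _ _

theorem mat_mulC {M N : List ℕ} (hM : M.length = 78) (hN : N.length = 78) :
    mat ω (mulC M N) = mat ω M * mat ω N := by
  ext i j
  have hj : idxCode chevE6 j < N.length := hN ▸ idxCode_lt j
  have e : (mulC M N).getD (idxCode chevE6 j) 0 = appAux M (N.getD (idxCode chevE6 j) 0) := by
    rw [mulC, List.getD_eq_getElem _ _ (by simpa using hj), List.getD_eq_getElem _ _ hj,
      List.getElem_map]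
  have h := congrFun (vec_appAux ω hω hM (N.getD (idxCode chevE6 j) 0)) i
  show phi ω ((mulC M N).getD _ 0) _ = _
  rw [e, Matrix.mul_apply]
  exact h

omit hω in
theorem mat_addC {M N : List ℕ} (hM : M.length = 78) (hN : N.length = 78) :
    mat ω (addC M N) = mat ω M + mat ω N := by
  ext i j
  have h1 : idxCode chevE6 j < M.length := hM ▸ idxCode_lt j
  have h2 : idxCode chevE6 j < N.length := hN ▸ idxCode_lt j
  simp only [mat, Matrix.of_apply, Matrix.add_apply]
  rw [addC, List.getD_eq_getElem _ _ (by simp [h1, h2]), List.getElem_zipWith,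
    List.getD_eq_getElem _ _ h1, List.getD_eq_getElem _ _ h2, phi_xor]

omit [CharP K 2] hω in
theorem phi_bit {a c : ℕ} (ha : a < 80) (hc : c < 80) :
    phi ω (1 <<< a) c = if c = a then 1 else 0 := by
  rw [Nat.one_shiftLeft]
  simp only [phi, Nat.testBit_two_pow]
  rw [decide_eq_false (show ¬ a = 80 + c by omega)]
  by_cases e : c = a
  · simp [e, pval]
  · simp [e, Ne.symm e, pval]

omit [CharP K 2] hω in
theorem mat_oneC : mat ω oneC = 1 := by
  ext i j
  simp only [mat, Matrix.of_apply, oneC]
  rw [List.getD_eq_getElem _ _ (by simpa using lt78 j), List.getElem_map, List.getElem_range,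
    phi_bit ω (lt80 j) (lt80 i), Matrix.one_apply]
  simp only [idxCode_inj.eq_iff]

omit [CharP K 2] hω in
theorem length_mulC (M N : List ℕ) : (mulC M N).length = N.length := by simp [mulC]

omit hω in
theorem vec_xor (u v : ℕ) : vec ω (u ^^^ v) = vec ω u + vec ω v := funext fun x => phi_xor ω u v _

theorem vec_powS : ∀ (n v : ℕ), vec ω (powS n v) = ω ^ n • vec ω v
  | 0, v => by simp [powS]
  | n + 1, v => by
    have ih := vec_powS n v
    funext x
    have h := phi_scal2 ω hω (powS n v) (lt80 x)
    show phi ω (scal2 (powS n v)) _ = _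
    rw [h, show phi ω (powS n v) (idxCode chevE6 x) = _ from congrFun ih x, pow_succ']
    simp [mul_assoc]

theorem vec_colOf {r c : ℕ} (e : ℕ) (hr : r < chevE6.nroots) (hc : c < 78) :
    vec ω (colOf r e c) = chevE6.x K r (ω ^ e) *ᵥ bv chevE6 K c := by
  have h := rE6.toChecked
  have hterm : ∀ k (q : ℕ × ℤ), q ∈ eCol chevE6 E6.cert r c k →
      vec ω (powS (e * k) (parC q.2 (1 <<< q.1))) = (ω ^ e) ^ k • ((q.2 : K) • bv chevE6 K q.1) := by
    intro k q hq
    have hlt : q.1 < 80 := lt_of_lt_of_le (h.eCol_lt hr hc k q hq) (by decide)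
    rw [vec_powS ω hω, ← pow_mul]
    congr 1
    funext x
    have hz : (q.2 : K) = if q.2.natAbs % 2 = 1 then 1 else 0 := by
      rcases Int.natAbs_eq q.2 with hq' | hq' <;> rw [hq'] <;>
        simp only [Int.cast_neg, Int.cast_natCast, CharTwo.neg_eq, Int.natAbs_neg, Int.natAbs_natCast] <;>
        · rw [CharP.cast_eq_mod K 2 q.2.natAbs]
          rcases Nat.mod_two_eq_zero_or_one q.2.natAbs with hm | hm <;> simp [hm]
    show phi ω (parC q.2 _) _ = _
    by_cases hp : q.2.natAbs % 2 = 1
    · rw [parC, hp, show Nat.beq 1 1 = true from rfl, cond_true, phi_bit ω hlt (lt80 x)]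
      simp [hz, hp, bv]
    · rw [parC, show Nat.beq (q.2.natAbs % 2) 1 = false by
        rw [Bool.eq_false_iff]; exact fun h' => hp (Nat.eq_of_beq_eq_true h'), cond_false, phi_zero]
      simp [hz, hp]
  have hsum : ∀ L : List ℕ, vec ω (xorL L) = (L.map (vec ω)).sum := by
    intro L
    induction L with
    | nil => funext x; simp [xorL, vec, phi_zero]
    | cons a L ih => rw [xorL, vec_xor, ih, List.map_cons, List.sum_cons]
  have hk : ∀ k, (((eCol chevE6 E6.cert r c k).map fun q => powS (e * k) (parC q.2 (1 <<< q.1))).map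
      (vec ω)).sum = (ω ^ e) ^ k • evalC chevE6 K (eCol chevE6 E6.cert r c k) := by
    intro k
    rw [evalC, List.smul_sum, List.map_map, List.map_map]
    exact congrArg List.sum (List.map_congr_left (hterm k))
  rw [colOf, hsum, h.x_mulVec_bv hr hc]
  simp only [show List.range 4 = [0, 1, 2, 3] from rfl, List.flatMap_cons, List.flatMap_nil,
    List.append_nil, List.map_append, List.sum_append, hk]
  simp [Finset.sum_range_succ, add_assoc]

theorem mat_xC {r : ℕ} (e : ℕ) (hr : r < chevE6.nroots) : mat ω (xC r e) = chevE6.x K r (ω ^ e) := by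
  refine matrix_ext fun c hc => ?_
  obtain ⟨x, rfl⟩ := exists_idxCode hc
  rw [← vec_colOf ω hω e hr hc, mulVec_bv]
  funext i
  simp only [mat, Matrix.of_apply, xC, vec]
  rw [List.getD_eq_getElem _ _ (by simpa using lt78 x), List.getElem_map, List.getElem_range]

end Field

/-- quick evaluation of matrix times vector -/
noncomputable def appR (L : List (ℕ × ℕ)) : ℕ → ℕ :=
  List.rec (fun _ => 0)
    (fun p _ ih v => Nat.xor (Nat.mul p.1 (Nat.land v 1))
      (Nat.xor (Nat.mul p.2 (Nat.land (Nat.shiftRight v 80) 1)) (ih (Nat.shiftRight v 1)))) L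

/-- columns with their multiples by `ω` -/
noncomputable def prepR (L : List ℕ) : List (ℕ × ℕ) :=
  List.rec [] (fun a _ ih => (a, Nat.xor (Nat.land (Nat.shiftRight a 80) mask)
    (Nat.shiftLeft (Nat.xor (Nat.land a mask) (Nat.shiftRight a 80)) 80)) :: ih) L

/-- quick product of matrices -/
noncomputable def mulR (M N : List ℕ) : List ℕ :=
  List.rec [] (fun a _ ih => appR (prepR M) a :: ih) N

theorem land_one_mul (n v : ℕ) : n * (v &&& 1) = bif Nat.testBit v 0 then n else 0 := by
  rw [Nat.and_one_is_mod, Nat.testBit_zero]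
  rcases Nat.mod_two_eq_zero_or_one v with h | h <;> simp [h]

theorem appR_eq : ∀ (L : List ℕ) (v : ℕ), appR (prepR L) v = appAux L v
  | [], _ => rfl
  | a :: L, v => by
    have e : appR (prepR (a :: L)) v =
        (a * (v &&& 1)) ^^^ ((scal2 a * ((v >>> 80) &&& 1)) ^^^ appR (prepR L) (v >>> 1)) := rfl
    rw [e, appR_eq L, land_one_mul, land_one_mul, Nat.testBit_shiftRight, add_zero, appAux, Nat.xor_assoc]

theorem mulR_eq (M : List ℕ) : ∀ N, mulR M N = mulC M N
  | [] => rfl
  | a :: N => by
    show appR (prepR M) a :: mulR M N = appAux M a :: mulC M N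
    rw [appR_eq, mulR_eq M N]

end Cfsg.Agent.Lib.Fi22TE6
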