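import Cfsg.Agent.Lib.Fi22TE6.Checks
import Cfsg.Agent.S1696

/-!
Fi22 in the twisted group of type E6 over the field with four elements; its commutant.
-/

set_option autoImplicit false
set_option linter.unusedSectionVars false

namespace Cfsg.Agent.Lib.Fi22TE6

open Cfsg.Lie Cfsg.Spor Cfsg.Agent.Lib.Chev Cfsg.Agent.Lib.Chev16
open scoped Matrix

variable {K : Type*} [Field K] [CharP K 2] (ω : K) (hω : ω * ω = ω + 1)
include hω

theorem getD_length {Ms : List (List ℕ)} (h : Ms.all (fun M => M.length == 78) = true) (i : ℕ) :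
    (Ms.getD i oneC).length = 78 := by
  by_cases hi : i < Ms.length
  · rw [List.getD_eq_getElem _ _ hi]
    exact beq_iff_eq.1 (List.all_eq_true.1 h _ (List.getElem_mem hi))
  · rw [List.getD_eq_default _ _ (not_lt.1 hi)]
    simp [oneC]

theorem getD_sq {Ms : List (List ℕ)} (hl : Ms.all (fun M => M.length == 78) = true)
    (h : Ms.all (fun M => mulR M M == oneC) = true) (i : ℕ) :
    mat ω (Ms.getD i oneC) * mat ω (Ms.getD i oneC) = 1 := by
  by_cases hi : i < Ms.length
  · have hs := beq_iff_eq.1 (List.all_eq_true.1 h _ (List.getElem_mem hi))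
    have hlen : Ms[i].length = 78 := beq_iff_eq.1 (List.all_eq_true.1 hl _ (List.getElem_mem hi))
    rw [List.getD_eq_getElem _ _ hi, ← mat_mulC ω hω hlen hlen, ← mulR_eq, hs, mat_oneC]
  · rw [List.getD_eq_default _ _ (not_lt.1 hi), mat_oneC, one_mul]

/-- generator unit -/
def genU (i : ℕ) : GL chevE6.Idx K :=
  ⟨mat ω (genMats.getD i oneC), mat ω (genMats.getD i oneC),
    getD_sq ω hω gen_lengths gen_sq i, getD_sq ω hω gen_lengths gen_sq i⟩

/-- node unit -/
def nodeU (i : ℕ) : GL chevE6.Idx K :=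
  ⟨mat ω (nodeMats.getD i oneC), mat ω (nodeMats.getD i oneC),
    getD_sq ω hω node_lengths node_sq i, getD_sq ω hω node_lengths node_sq i⟩

theorem wordC_spec {Ms : List (List ℕ)} (h : Ms.all (fun M => M.length == 78) = true) :
    ∀ w : List ℕ, (wordC Ms w).length = 78 ∧
      mat ω (wordC Ms w) = (w.map fun i => mat ω (Ms.getD i oneC)).prod
  | [] => ⟨by simp [wordC, oneC], by simp [wordC, mat_oneC]⟩
  | [i] => ⟨getD_length ω hω h i, by simp [wordC]⟩
  | i :: j :: w => by
    obtain ⟨h1, h2⟩ := wordC_spec h (j :: w)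
    refine ⟨by rw [wordC, mulR_eq, length_mulC]; exact h1, ?_⟩
    rw [wordC, mulR_eq, mat_mulC ω hω (getD_length ω hω h i) h1, h2]
    rfl

theorem powC_spec {M : List ℕ} (hM : M.length = 78) :
    ∀ n : ℕ, (powC M n).length = 78 ∧ mat ω (powC M n) = mat ω M ^ n
  | 0 => ⟨by simp [powC, oneC], by simp [powC, mat_oneC]⟩
  | 1 => ⟨hM, by simp [powC]⟩
  | n + 2 => by
    obtain ⟨h1, h2⟩ := powC_spec hM (n + 1)
    refine ⟨by rw [powC, mulR_eq, length_mulC]; exact h1, ?_⟩
    rw [powC, mulR_eq, mat_mulC ω hω hM h1, h2, ← pow_succ']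

/-- a node to a Coxeter generator -/
def genMap (x : Fi22.Gen) : GL chevE6.Idx K := nodeU ω hω (genIx x)

theorem pow_word {L : List ℕ} {n : ℕ} (h : powC (wordC nodeMats L) n = oneC) :
    (L.map fun i => mat ω (nodeMats.getD i oneC)).prod ^ n = 1 := by
  obtain ⟨h1, h2⟩ := wordC_spec ω hω node_lengths L
  rw [← h2, ← (powC_spec ω hω h1 n).2, h, mat_oneC]

theorem genMap_rels : ∀ r ∈ coxRelators Fi22.edges ∪ {r | r ∈ Fi22.extra},
    FreeGroup.lift (genMap ω hω) r = 1 := by
  rintro r (⟨x, -, y, -, rfl⟩ | hr)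
  · have hl := getD_length ω hω node_lengths
    have h := beq_iff_eq.1 (List.all_eq_true.1 (List.all_eq_true.1 node_cox x (mem_allGen x)) y (mem_allGen y))
    have hlen : (mulC (nodeMats.getD (genIx x) oneC) (nodeMats.getD (genIx y) oneC)).length = 78 := by
      rw [length_mulC]; exact hl _
    rw [map_pow, map_mul, FreeGroup.lift_apply_of, FreeGroup.lift_apply_of]
    refine Units.ext ?_
    rw [mulR_eq] at h
    rw [Units.val_pow_eq_pow_val, Units.val_mul]
    show (mat ω _ * mat ω _) ^ _ = 1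
    rw [← mat_mulC ω hω (hl _) (hl _), ← (powC_spec ω hω hlen _).2, h, mat_oneC]
  · have e1 := pow_word ω hω node_extra1
    have e2 := pow_word ω hω node_extra2
    have e3 := pow_word ω hω node_extra3
    simp only [List.map_cons, List.map_nil, List.prod_cons, List.prod_nil, mul_one] at e1 e2 e3
    simp only [Fi22.extra, Set.mem_setOf_eq, List.mem_cons, List.not_mem_nil, or_false] at hr
    rcases hr with rfl | rfl | rfl <;>
      simp only [map_pow, map_mul, FreeGroup.lift_apply_of] <;>
      refine Units.ext ?_ <;>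
      simp only [Units.val_pow_eq_pow_val, Units.val_mul, Units.val_one, mul_assoc, genMap, nodeU, genIx]
    exacts [e1, e2, e3]

/-- the homomorphism -/
noncomputable def fiHom : Fi22 →* GL chevE6.Idx K := PresentedGroup.toGroup (genMap_rels ω hω)

theorem fiHom_of (x : Fi22.Gen) : fiHom ω hω (PresentedGroup.of x) = genMap ω hω x :=
  PresentedGroup.toGroup.of (genMap_rels ω hω)

theorem genU_mem {i : ℕ} (hi : i < 12) : genU ω hω i ∈ twistedE6 K 2 := by
  have hkind : genSpec.all (fun s => (decide (s.1 = s.2.1 ∧ s.2.2 = 0) && [e6p2, e6m2, e6p4, e6m4].contains s.1) ||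
      (decide (s.1 ≠ s.2.1) && [(e6p1, e6p6), (e6m1, e6m6), (e6p3, e6p5), (e6m3, e6m5)].contains (s.1, s.2.1))) =
        true := by decide +kernel
  have hl : i < genSpec.length := by rw [show genSpec.length = 12 from rfl]; exact hi
  have e : genMats.getD i oneC = specC genSpec[i] := by
    rw [gen_spec, List.getD_eq_getElem _ _ (by simpa using hl), List.getElem_map]
  have hs : genSpec[i].1 < 72 ∧ genSpec[i].2.1 < 72 :=
    of_decide_eq_true (List.all_eq_true.1 spec_small _ (List.getElem_mem hl))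
  have hk := List.all_eq_true.1 hkind _ (List.getElem_mem hl)
  generalize genSpec[i] = s at e hs hk
  obtain ⟨a, b, m⟩ := s
  simp only [Bool.or_eq_true, Bool.and_eq_true, decide_eq_true_eq, List.contains_iff_mem] at hk
  rcases hk with ⟨⟨rfl, rfl⟩, hm⟩ | ⟨hne, hm⟩
  · refine Subgroup.subset_closure ⟨[(a, 1)], Or.inl ⟨1, one_pow 2, a, hm, rfl⟩, ?_⟩
    show mat ω (genMats.getD i oneC) = _
    rw [e, specC]
    simp [mat_xC ω hω 0 (show a < chevE6.nroots from hs.1), ChevalleyDatum.wordMat]
  · refine Subgroup.subset_closure ⟨[(a, ω ^ m), (b, (ω ^ m) ^ 2)], Or.inr ⟨ω ^ m, (a, b), hm, rfl⟩, ?_⟩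
    show mat ω (genMats.getD i oneC) = _
    have hb : Nat.beq a b = false := by
      rw [Bool.eq_false_iff]; exact fun h => hne (Nat.eq_of_beq_eq_true h)
    rw [e, specC, hb, cond_false, mulR_eq, mat_mulC ω hω (by simp [xC]) (by simp [xC]),
      mat_xC ω hω m (show a < chevE6.nroots from hs.1), mat_xC ω hω (2 * m) (show b < chevE6.nroots from hs.2)]
    simp [ChevalleyDatum.wordMat, ← pow_mul, mul_comm m 2]

theorem genU_mem' (i : ℕ) : genU ω hω i ∈ twistedE6 K 2 := by
  by_cases hi : i < 12
  · exact genU_mem ω hω hi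
  · have : genU ω hω i = 1 := Units.ext (by
      show mat ω (genMats.getD i oneC) = 1
      rw [List.getD_eq_default _ _ (show genMats.length ≤ i from not_lt.1 hi), mat_oneC])
    rw [this]; exact one_mem _

theorem nodeU_mem (i : ℕ) : nodeU ω hω i ∈ twistedE6 K 2 := by
  by_cases hi : i < 9
  · have e : nodeU ω hω i = ((fullW i).map (genU ω hω)).prod := Units.ext (by
      show mat ω (nodeMats.getD i oneC) = _
      rw [node_word, List.getD_eq_getElem _ _ (by simpa using hi), List.getElem_map, List.getElem_range,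
        (wordC_spec ω hω gen_lengths _).2, ← Units.coeHom_apply, map_list_prod, List.map_map]
      rfl)
    rw [e]
    exact list_prod_mem fun g hg => by
      obtain ⟨j, -, rfl⟩ := List.mem_map.1 hg
      exact genU_mem' ω hω j
  · have : nodeU ω hω i = 1 := Units.ext (by
      show mat ω (nodeMats.getD i oneC) = 1
      rw [List.getD_eq_default _ _ (show nodeMats.length ≤ i from not_lt.1 hi), mat_oneC])
    rw [this]; exact one_mem _

theorem fiHom_mem (g : Fi22) : fiHom ω hω g ∈ twistedE6 K 2 := by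
  have h : Subgroup.closure (Set.range (PresentedGroup.of : Fi22.Gen → Fi22)) ≤
      (twistedE6 K 2).comap (fiHom ω hω) := by
    rw [Subgroup.closure_le]
    rintro _ ⟨x, rfl⟩
    rw [SetLike.mem_coe, Subgroup.mem_comap, fiHom_of]
    exact nodeU_mem ω hω _
  rw [PresentedGroup.closure_range_of] at h
  exact h (Subgroup.mem_top g)

/-- the pivot coordinate of `vFix` is one -/
theorem vFix_pivot (x : chevE6.Idx) (hx : idxCode chevE6 x = vPiv) : vec ω vFix x = 1 := by
  have h1 : Nat.testBit vFix vPiv = true ∧ Nat.testBit vFix (80 + vPiv) = false := by decide +kernel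
  show phi ω vFix (idxCode chevE6 x) = 1
  rw [hx, phi, h1.1, h1.2]
  simp [pval]

theorem sumC_spec : sumC.length = 78 ∧ mat ω sumC =
    ([1, 3, 7, 4].map fun i => mat ω (nodeMats.getD i oneC)).prod +
      (([5, 2].map fun i => mat ω (nodeMats.getD i oneC)).prod +
        ([5].map fun i => mat ω (nodeMats.getD i oneC)).prod) := by
  obtain ⟨a1, a2⟩ := wordC_spec ω hω node_lengths [1, 3, 7, 4]
  obtain ⟨b1, b2⟩ := wordC_spec ω hω node_lengths [5, 2]
  obtain ⟨c1, c2⟩ := wordC_spec ω hω node_lengths [5]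
  have hl : (addC (wordC nodeMats [5, 2]) (wordC nodeMats [5])).length = 78 := by simp [addC, b1, c1]
  refine ⟨by simp [sumC, addC, a1, b1, c1], ?_⟩
  rw [sumC, mat_addC ω a1 hl, mat_addC ω b1 c1, a2, b2, c2]

theorem sum_vFix : mat ω sumC *ᵥ vec ω vFix = 0 := by
  rw [← vec_appAux ω hω (sumC_spec ω hω).1, ← appR_eq, sum_fix]
  funext x
  exact phi_zero ω _

theorem mat_pivC_mulVec (u : chevE6.Idx → K) (xp : chevE6.Idx) (hxp : idxCode chevE6 xp = vPiv) :
    mat ω pivC *ᵥ u = u xp • vec ω vFix := by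
  funext y
  have he : ∀ x : chevE6.Idx, mat ω pivC y x =
      if idxCode chevE6 x = vPiv then vec ω vFix y else 0 := by
    intro x
    simp only [mat, pivC, Matrix.of_apply]
    rw [List.getD_eq_getElem _ _ (by simpa using lt78 x), List.getElem_map, List.getElem_range]
    by_cases hx : idxCode chevE6 x = vPiv
    · rw [hx, show Nat.beq vPiv vPiv = true from Nat.beq_refl _, cond_true, if_pos rfl]
      rfl
    · rw [show Nat.beq (idxCode chevE6 x) vPiv = false from
        Bool.eq_false_iff.2 fun h => hx (Nat.eq_of_beq_eq_true h), cond_false, phi_zero, if_neg hx]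
  rw [Matrix.mulVec, dotProduct, Finset.sum_eq_single xp]
  · rw [he, if_pos hxp, Pi.smul_apply, smul_eq_mul, mul_comm]
  · intro x _ hne
    rw [he, if_neg fun h => hne (idxCode_inj (h.trans hxp.symm)), zero_mul]
  · exact fun h => absurd (Finset.mem_univ _) h

theorem fiHom_injective : Function.Injective (fiHom ω hω) := by
  haveI := Cfsg.Agent.S1696.result.1
  rcases (fiHom ω hω).normal_ker.eq_bot_or_eq_top with h | h
  · exact (MonoidHom.ker_eq_bot_iff _).1 h
  exfalso
  have hn : ∀ x : Fi22.Gen, mat ω (nodeMats.getD (genIx x) oneC) = 1 := by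
    intro x
    have h1 : fiHom ω hω (PresentedGroup.of x) = 1 := MonoidHom.mem_ker.1 (h ▸ Subgroup.mem_top _)
    rw [fiHom_of] at h1
    exact congrArg Units.val h1
  have h0 := sum_vFix ω hω
  simp only [(sumC_spec ω hω).2, List.map_cons, List.map_nil, List.prod_cons, List.prod_nil,
    show mat ω (nodeMats.getD 1 oneC) = 1 from hn .b, show mat ω (nodeMats.getD 2 oneC) = 1 from hn .c,
    show mat ω (nodeMats.getD 3 oneC) = 1 from hn .d, show mat ω (nodeMats.getD 4 oneC) = 1 from hn .e,
    show mat ω (nodeMats.getD 5 oneC) = 1 from hn .f, show mat ω (nodeMats.getD 7 oneC) = 1 from hn .h,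
    one_mul, Matrix.add_mulVec, Matrix.one_mulVec] at h0
  obtain ⟨xp, hxp⟩ := exists_idxCode (D := chevE6) (show vPiv < 78 by decide)
  have h1 := congrFun h0 xp
  simp only [Pi.add_apply, Pi.zero_apply, vFix_pivot ω hω xp hxp] at h1
  rw [CharTwo.add_self_eq_zero, add_zero] at h1
  exact one_ne_zero h1

/-- Matrices commuting with the nodes `b, …, i` are scalar. -/
theorem commutant (z : Matrix chevE6.Idx chevE6.Idx K)
    (hz : ∀ i, 1 ≤ i → i ≤ 8 → z * mat ω (nodeMats.getD i oneC) = mat ω (nodeMats.getD i oneC) * z) :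
    ∃ l : K, z = l • (1 : Matrix chevE6.Idx chevE6.Idx K) := by
  obtain ⟨xp, hxp⟩ := exists_idxCode (D := chevE6) (show vPiv < 78 by decide)
  set v := vec ω vFix with hv
  set A := mat ω sumC with hA
  have hc : ∀ w : List ℕ, (∀ i ∈ w, 1 ≤ i ∧ i ≤ 8) →
      z * (w.map fun i => mat ω (nodeMats.getD i oneC)).prod =
        (w.map fun i => mat ω (nodeMats.getD i oneC)).prod * z := fun w hw =>
    Commute.list_prod_right _ _ fun M hM => by
      obtain ⟨i, hi, rfl⟩ := List.mem_map.1 hM
      exact hz i (hw i hi).1 (hw i hi).2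
  have hAz : z * A = A * z := by
    rw [hA, (sumC_spec ω hω).2, mul_add, mul_add, add_mul, add_mul, hc [1, 3, 7, 4] (by decide),
      hc [5, 2] (by decide), hc [5] (by decide)]
  have h1 : mat ω leftM * A + mat ω pivC = 1 := by
    have hl : (mulC leftM sumC).length = 78 := by rw [length_mulC]; exact (sumC_spec ω hω).1
    rw [hA, ← mat_mulC ω hω left_length (sumC_spec ω hω).1, ← mat_addC ω hl (by simp [pivC]), ← mulR_eq,
      left_ok, mat_oneC]
  have hu : z *ᵥ v = (z *ᵥ v) xp • v := by
    calc z *ᵥ v = (mat ω leftM * A + mat ω pivC) *ᵥ (z *ᵥ v) := by rw [h1, Matrix.one_mulVec]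
      _ = _ := by
        rw [Matrix.add_mulVec, ← Matrix.mulVec_mulVec, Matrix.mulVec_mulVec _ A z, ← hAz,
          ← Matrix.mulVec_mulVec _ z A, sum_vFix ω hω, Matrix.mulVec_zero, Matrix.mulVec_zero, zero_add,
          mat_pivC_mulVec ω hω _ xp hxp]
  set l := (z *ᵥ v) xp
  have hspin : ∀ w : List ℕ, (∀ i ∈ w, 1 ≤ i ∧ i ≤ 8) → z *ᵥ vec ω (spinV w) = l • vec ω (spinV w) := by
    intro w hw
    induction w with
    | nil => exact hu
    | cons a w ih =>
      have ha := hw a List.mem_cons_self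
      have e : vec ω (spinV (a :: w)) = mat ω (nodeMats.getD a oneC) *ᵥ vec ω (spinV w) := by
        rw [show spinV (a :: w) = appR (prepR (nodeMats.getD a oneC)) (spinV w) from rfl, appR_eq,
          vec_appAux ω hω (getD_length ω hω node_lengths a)]
      rw [e, Matrix.mulVec_mulVec, hz a ha.1 ha.2, ← Matrix.mulVec_mulVec,
        ih fun i hi => hw i (List.mem_cons_of_mem _ hi), Matrix.mulVec_smul]
  set B := mat ω (spinW.map spinV)
  have hBl : (spinW.map spinV).length = 78 := by rw [List.length_map]; exact spin_length.1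
  have hB : B * mat ω spinInv = 1 := by
    rw [← mat_mulC ω hω hBl spin_length.2, ← mulR_eq, spin_ok, mat_oneC]
  have hzB : z * B = l • B := by
    ext i j
    have hj : idxCode chevE6 j < spinW.length := by rw [spin_length.1]; exact lt78 j
    have hw : ∀ k ∈ spinW[idxCode chevE6 j], 1 ≤ k ∧ k ≤ 8 := fun k hk =>
      of_decide_eq_true (List.all_eq_true.1 (List.all_eq_true.1 spin_range _ (List.getElem_mem hj)) k hk)
    have hcol : ∀ y, B y j = vec ω (spinV spinW[idxCode chevE6 j]) y := by
      intro y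
      simp only [B, mat, vec, Matrix.of_apply]
      rw [List.getD_eq_getElem _ _ (by simpa using hj), List.getElem_map]
    have h2 := congrFun (hspin _ hw) i
    simp only [Matrix.mulVec, dotProduct, Pi.smul_apply, ← hcol, smul_eq_mul] at h2
    rw [Matrix.mul_apply, Matrix.smul_apply, smul_eq_mul]
    exact h2
  refine ⟨l, ?_⟩
  calc z = z * (B * mat ω spinInv) := by rw [hB, mul_one]
    _ = l • 1 := by rw [← mul_assoc, hzB, smul_mul_assoc, hB]

end Cfsg.Agent.Lib.Fi22TE6
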