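import Cfsg.Agent.Lib.Chev16.F4InE6Classes
import Cfsg.Agent.Lib.Chev.Levi
import Cfsg.Prelude.Def_KGroupFacts

/-!
Three classes of copies of a subgroup of the twisted group of type E6 over the field with four elements
whose commutant is scalar and whose outer automorphism group has order two.
-/

set_option autoImplicit false

namespace Cfsg.Agent.Lib.Fi22TE6

open Cfsg.Lie Cfsg.Agent.Lib.Chev Cfsg.Agent.Lib.Chev16

variable {K : Type*} [Field K] [Fintype K] [CharP K 2]

theorem outSet_empty : outSet chevE6 E6.cert ∅ = posSet chevE6 := by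
  ext r
  refine ⟨fun hr => hr.1, fun hr => ⟨hr, fun hs => ?_⟩⟩
  have h0 := rE6.toChecked.ht_pos hr.2 hr.1
  rw [ht, Finset.sum_eq_zero fun j hj => hs j (Finset.mem_range.1 hj) (Finset.notMem_empty _)] at h0
  exact lt_irrefl _ h0

omit [CharP K 2] in
/-- A scalar multiple of an outer diagonal element in the group has trivial exponent. -/
theorem pow_eq_one_of_scalar (hK : Fintype.card K = 4) (ω : Kˣ) {m : ℕ} {g : GL chevE6.Idx K} {l : K}
    (hg : g ∈ chevE6.group K)
    (e : (g : Matrix chevE6.Idx chevE6.Idx K) =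
      l • (dgl (fun j => (ω ^ outExp j) ^ m) : GL chevE6.Idx K).1) : ω ^ m = 1 := by
  classical
  set c : ℕ → Kˣ := fun j => (ω ^ outExp j) ^ m with hc
  have h := rE6.toChecked
  have hgU : g ∈ Subgroup.normalizer (chevE6.posUnipotent K : Set (GL chevE6.Idx K)) := by
    have hconj : ∀ (c : ℕ → Kˣ), ∀ u ∈ chevE6.posUnipotent K, dgl c * u * (dgl c)⁻¹ ∈ chevE6.posUnipotent K := by
      intro c u hu
      rw [h.posUnipotent_eq] at hu ⊢
      induction hu using Subgroup.closure_induction with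
      | mem x hx =>
        obtain ⟨r, t, hr, ex⟩ := hx
        obtain rfl : x = xGL h K hr.2 t := Units.ext ex
        rw [dgl_conj_x c hr.2]
        exact Subgroup.subset_closure ⟨r, _, hr, coe_xGL _ _ _⟩
      | one => simp
      | mul a b _ _ ha hb => have := mul_mem ha hb; simpa [mul_assoc] using this
      | inv a _ ha => have := inv_mem ha; simpa [mul_assoc] using this
    have hsame : ∀ u : GL chevE6.Idx K, g * u * g⁻¹ = dgl c * u * (dgl c)⁻¹ := by
      intro u
      have e1 : g * u * (dgl c) = dgl c * u * g ↔ g * u * g⁻¹ = dgl c * u * (dgl c)⁻¹ := by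
        constructor <;> intro e2
        · have hd : (dgl c) * g = g * dgl c := Units.ext (by
            rw [Units.val_mul, Units.val_mul, e, mul_smul_comm, smul_mul_assoc])
          calc g * u * g⁻¹ = (g * u * dgl c) * ((dgl c)⁻¹ * g⁻¹) := by group
            _ = dgl c * u * g * ((g * dgl c)⁻¹) := by rw [e2, mul_inv_rev]
            _ = dgl c * u * g * ((dgl c * g)⁻¹) := by rw [hd]
            _ = _ := by group
        · have hd : (dgl c) * g = g * dgl c := Units.ext (by
            rw [Units.val_mul, Units.val_mul, e, mul_smul_comm, smul_mul_assoc])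
          calc g * u * dgl c = (g * u * g⁻¹) * (g * dgl c) := by group
            _ = dgl c * u * (dgl c)⁻¹ * (dgl c * g) := by rw [e2, hd]
            _ = _ := by group
      refine e1.1 (Units.ext ?_)
      simp only [Units.val_mul, e, smul_mul_assoc, mul_smul_comm]
    rw [Subgroup.mem_normalizer_iff]
    intro u
    refine ⟨fun hu => ?_, fun hu => ?_⟩
    · rw [hsame]
      exact hconj c u hu
    · rw [hsame] at hu
      have hi : dgl c⁻¹ = (dgl c)⁻¹ := map_inv dglHom c
      have := hconj c⁻¹ _ hu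
      rw [hi] at this
      simpa [mul_assoc] using this
  have hgB : g ∈ chevE6.borelSubgroup K := by
    have h1 := (rE6.normalizer_radical (F := K) (Finset.empty_subset (Finset.range chevE6.rank))).le
    rw [outSet_empty, ← h.posUnipotent_eq] at h1
    have h2 := h1 (Subgroup.mem_inf.2 ⟨hgU, hg⟩)
    simpa [ChevalleyDatum.parabolicSubgroup] using h2
  obtain ⟨v, hv, t, ht, egv⟩ := rE6.mem_borel_iff.1 hgB
  rw [rE6.diagonalSubgroup_eq] at ht
  obtain ⟨c', rfl⟩ := ht
  have hv1 : v = 1 := by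
    refine rE6.eq_one_of_posUnipotent hv ?_
    intro y x hne
    by_cases exy : y = x
    · simp [exy]
    exfalso
    apply hne
    have ev : v = g * (torusHom chevE6 K c')⁻¹ := by rw [egv]; group
    rw [ev, ← map_inv, Units.val_mul, e, coe_torusHom, dgl, coe_diagGL, ChevalleyDatum.charDiag,
      ChevalleyDatum.charDiag, smul_mul_assoc, Matrix.diagonal_mul_diagonal, Matrix.smul_apply,
      Matrix.diagonal_apply_ne _ exy, smul_zero]
  subst hv1
  rw [one_mul] at egv
  have hent : ∀ x : chevE6.Idx, l * Sum.elim (fun _ => (1 : K)) (fun r => (chiOf chevE6 E6.cert c r.val : K)) x =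
      Sum.elim (fun _ => (1 : K)) (fun r => (torusFun chevE6 c' r.val : K)) x := by
    intro x
    have h0 : (g : Matrix chevE6.Idx chevE6.Idx K) = (torusHom chevE6 K c' : GL chevE6.Idx K).1 := by rw [egv]
    have h1 := congrFun (congrFun h0 x) x
    rw [e, coe_torusHom, dgl, coe_diagGL, ChevalleyDatum.charDiag, ChevalleyDatum.charDiag, Matrix.smul_apply,
      Matrix.diagonal_apply_eq, Matrix.diagonal_apply_eq, smul_eq_mul] at h1
    exact h1
  have hl : l = 1 := by simpa using hent (Sum.inl ⟨0, by decide⟩)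
  refine no_inner_out hK ω (c' := c') fun i hi => ?_
  have h2 := hent (Sum.inr ⟨chevE6.simple i, h.simple_lt hi⟩)
  simp only [Sum.elim_inr, hl, one_mul] at h2
  have hci : chiOf chevE6 E6.cert c (chevE6.simple i) = c i := by
    rw [chiOf, Finset.prod_eq_single i]
    · rw [(h.simple_tab hi hi).2.1, if_pos rfl, zpow_one]
    · intro j hj hne
      rw [(h.simple_tab hi (Finset.mem_range.1 hj)).2.1, if_neg (Ne.symm hne), zpow_zero]
    · intro hn; exact absurd (Finset.mem_range.2 hi) hn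
  exact (Units.ext h2).symm.trans hci

/-- The three classes. -/
theorem three_classes (hK : Fintype.card K = 4) (H : Subgroup (GL chevE6.Idx K)) (hle : H ≤ twistedE6 K 2)
    (hcomm : ∀ z : GL chevE6.Idx K, (∀ h ∈ H, z * h = h * z) →
      ∃ l : K, (z : Matrix chevE6.Idx chevE6.Idx K) = l • 1)
    (hout : Nat.card (Cfsg.Out ↥H) = 2) :
    ∃ Hs : Fin 3 → Subgroup ↥(twistedE6 K 2),
      (∀ i, Nonempty (Hs i ≃* H)) ∧
      (∀ i j, i ≠ j → ∀ g : ↥(twistedE6 K 2), (Hs i).map (MulAut.conj g).toMonoidHom ≠ Hs j) := by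
  classical
  have h3 : Fintype.card Kˣ = 3 := by rw [Fintype.card_units, hK]
  haveI : Nontrivial Kˣ := Fintype.one_lt_card_iff_nontrivial.1 (by omega)
  obtain ⟨ω, hω⟩ := exists_ne (1 : Kˣ)
  have hω3 : ω ^ 3 = 1 := by rw [← h3]; exact pow_card_eq_one
  set d : GL chevE6.Idx K := dgl fun j => ω ^ outExp j with hd
  have hpow : ∀ m : ℕ, d ^ m = dgl fun j => (ω ^ outExp j) ^ m := fun m =>
    ((dglHom (K := K)).map_pow (fun j => ω ^ outExp j) m).symm
  have hd3 : d ^ 3 = 1 := by
    rw [hpow, show (fun j => (ω ^ outExp j) ^ 3) = (1 : ℕ → Kˣ) from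
      funext fun j => by rw [← pow_mul, mul_comm, pow_mul, hω3, one_pow]; rfl]
    exact dgl_one
  have hdG : ∀ (m : ℕ) {g : GL chevE6.Idx K}, g ∈ chevE6.group K → d ^ m * g * (d ^ m)⁻¹ ∈ chevE6.group K := by
    intro m g hg
    rw [hpow]
    exact dgl_conj_group _ hg
  have hdinv : ∀ m : ℕ, (d ^ m)⁻¹ = d ^ (2 * m) := fun m => by
    refine inv_eq_of_mul_eq_one_left ?_
    rw [← pow_add, show 2 * m + m = 3 * m by ring, pow_mul, hd3, one_pow]
  set tw : Subgroup (GL chevE6.Idx K) := twistedE6 K 2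
  have hle' : ∀ m : ℕ, H.map (MulAut.conj (d ^ m)).toMonoidHom ≤ tw := by
    intro m
    induction m with
    | zero =>
      rintro _ ⟨u, hu, rfl⟩
      simpa using hle hu
    | succ m ih =>
      rintro _ ⟨u, hu, rfl⟩
      have := dgl_conj_twisted ω hω3 (ih ⟨u, hu, rfl⟩)
      rw [← hd] at this
      simpa [pow_succ', mul_assoc] using this
  refine ⟨fun i => (H.map (MulAut.conj (d ^ i.val)).toMonoidHom).subgroupOf tw, fun i => ?_, ?_⟩
  · exact ⟨(Subgroup.subgroupOfEquivOfLe (hle' i)).trans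
      (H.equivMapOfInjective _ (MulAut.conj (d ^ i.val)).injective).symm⟩
  intro i j hij g e
  beta_reduce at e
  have hG : (g : GL chevE6.Idx K) ∈ chevE6.group K := twisted_le_group 2 g.2
  have hmap : (H.map (MulAut.conj (d ^ i.val)).toMonoidHom).map (MulAut.conj (g : GL chevE6.Idx K)).toMonoidHom =
      H.map (MulAut.conj (d ^ j.val)).toMonoidHom := by
    refine le_antisymm ?_ ?_
    · rintro _ ⟨u, hu, rfl⟩
      have h1 : (MulAut.conj g).toMonoidHom (⟨u, hle' _ hu⟩ : ↥tw) ∈
          (H.map (MulAut.conj (d ^ j.val)).toMonoidHom).subgroupOf tw :=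
        e ▸ Subgroup.mem_map_of_mem _ (Subgroup.mem_subgroupOf.2 hu)
      simpa [Subgroup.mem_subgroupOf] using h1
    · intro u hu
      have h1 : (⟨u, hle' _ hu⟩ : ↥tw) ∈ (H.map (MulAut.conj (d ^ j.val)).toMonoidHom).subgroupOf tw :=
        Subgroup.mem_subgroupOf.2 hu
      rw [← e] at h1
      obtain ⟨v, hv, ev⟩ := h1
      exact ⟨v, Subgroup.mem_subgroupOf.1 hv, congrArg Subtype.val ev⟩
  set m : ℕ := 2 * j.val + i.val with hm
  set di : GL chevE6.Idx K := d ^ i.val with hdi
  set g' := di⁻¹ * (g : GL chevE6.Idx K) * di with hgdef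
  have hg' : g' ∈ chevE6.group K := by
    have h1 := hdG (2 * i.val) hG
    rw [← hdinv, ← hdi, inv_inv] at h1
    exact h1
  have hfix : H.map (MulAut.conj (d ^ m * g')).toMonoidHom = H := by
    have hj : d ^ m = (d ^ j.val)⁻¹ * di := by
      rw [hm, hdi, hdinv, ← pow_add]
    have h2 : ∀ (a b : GL chevE6.Idx K) (S : Subgroup (GL chevE6.Idx K)),
        S.map (MulAut.conj (a * b)).toMonoidHom =
          (S.map (MulAut.conj b).toMonoidHom).map (MulAut.conj a).toMonoidHom := by
      intro a b S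
      rw [Subgroup.map_map]
      congr 1
      ext u
      simp [mul_assoc]
    rw [hj, show (d ^ j.val)⁻¹ * di * g' = (d ^ j.val)⁻¹ * ((g : GL chevE6.Idx K) * di) by rw [hgdef]; group,
      h2, h2, hmap, ← h2, inv_mul_cancel]
    ext u
    simp
  set x := d ^ m * g' with hx
  let α : MulAut ↥H := (H.equivMapOfInjective _ (MulAut.conj x).injective).trans (MulEquiv.subgroupCongr hfix)
  have hα : ∀ u : ↥H, ((α u : ↥H) : GL chevE6.Idx K) = x * u * x⁻¹ := fun u => rfl
  obtain ⟨h, hh⟩ : α * α ∈ Cfsg.Inn ↥H := by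
    rw [← QuotientGroup.eq_one_iff]
    have := pow_card_eq_one' (G := Cfsg.Out ↥H) (x := QuotientGroup.mk α)
    rwa [hout, sq, ← QuotientGroup.mk_mul] at this
  have hconj : ∀ u ∈ H, x * (x * u * x⁻¹) * x⁻¹ = (h : GL chevE6.Idx K) * u * (h : GL chevE6.Idx K)⁻¹ := by
    intro u hu
    have := congrArg (fun f : MulAut ↥H => ((f ⟨u, hu⟩ : ↥H) : GL chevE6.Idx K)) hh
    simpa [MulAut.mul_apply, hα] using this.symm
  set z := (h : GL chevE6.Idx K)⁻¹ * x * x with hz
  obtain ⟨l, hl⟩ := hcomm z (fun u hu => by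
    calc z * u = (h : GL chevE6.Idx K)⁻¹ * (x * (x * u * x⁻¹) * x⁻¹) * x * x := by rw [hz]; group
      _ = (h : GL chevE6.Idx K)⁻¹ * ((h : GL chevE6.Idx K) * u * (h : GL chevE6.Idx K)⁻¹) * x * x := by
        rw [hconj u hu]
      _ = u * z := by rw [hz]; group)
  have hcent : ∀ a : GL chevE6.Idx K, z * a = a * z := fun a => Units.ext (by
    rw [Units.val_mul z a, Units.val_mul a z, hl, smul_mul_assoc, one_mul, mul_smul_comm, mul_one])
  have hhG : (h : GL chevE6.Idx K) ∈ chevE6.group K := twisted_le_group 2 (hle h.2)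
  -- the scalar times a diagonal element
  have hmem : z * d ^ m ∈ chevE6.group K := by
    have e1 : z * d ^ m =
        (d ^ m * (h : GL chevE6.Idx K) * (d ^ m)⁻¹)⁻¹ * ((d ^ (2 * m) * g' * (d ^ (2 * m))⁻¹) * g') := by
      have e2 : (d ^ (2 * m))⁻¹ = d ^ m := by rw [← hdinv, inv_inv]
      rw [hcent, e2, ← hdinv, mul_inv_rev, mul_inv_rev, inv_inv, hz, hx]
      have e3 : d ^ m * d ^ m = (d ^ m)⁻¹ := by rw [hdinv, ← pow_add, two_mul]
      calc d ^ m * ((h : GL chevE6.Idx K)⁻¹ * (d ^ m * g') * (d ^ m * g'))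
          = d ^ m * (h : GL chevE6.Idx K)⁻¹ * d ^ m * g' * d ^ m * g' := by group
        _ = d ^ m * (h : GL chevE6.Idx K)⁻¹ * ((d ^ m * d ^ m) * (d ^ m * d ^ m)) * g' * d ^ m * g' := by
          rw [e3, show (d ^ m)⁻¹ * (d ^ m)⁻¹ = (d ^ m * d ^ m)⁻¹ by group, e3, inv_inv]
        _ = _ := by rw [e3]; group
    rw [e1]
    exact mul_mem (inv_mem (hdG m hhG)) (mul_mem (hdG (2 * m) hg') hg')
  have hωm : ω ^ m = 1 := by
    refine pow_eq_one_of_scalar hK ω (l := l) hmem ?_
    rw [← hpow, Units.val_mul, hl, smul_mul_assoc, one_mul]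
  have h3' : orderOf ω = 3 := orderOf_eq_prime hω3 hω
  have hdvd : 3 ∣ m := h3' ▸ orderOf_dvd_of_pow_eq_one hωm
  exact hij (Fin.ext (by omega))

end Cfsg.Agent.Lib.Fi22TE6
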