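import Cfsg.Agent.Lib.Fi22TE6.Embed

/-!
The field with four elements, and the commutant of subgroups of the image of Fi22.
-/

set_option autoImplicit false

namespace Cfsg.Agent.Lib.Fi22TE6

open Cfsg.Lie Cfsg.Spor

theorem exists_omega {K : Type*} [Field K] [Fintype K] (hK : Fintype.card K = 4) :
    CharP K 2 ∧ ∃ ω : K, ω * ω = ω + 1 := by
  have hC : CharP K 2 := by
    obtain ⟨p, hp⟩ := CharP.exists K
    obtain ⟨n, hpp, hn⟩ := FiniteField.card K p
    rw [hK] at hn
    have : p ∣ 2 ^ 2 := by rw [show (2 : ℕ) ^ 2 = p ^ (n : ℕ) from hn]; exact dvd_pow_self p n.ne_zero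
    rwa [(Nat.prime_dvd_prime_iff_eq hpp Nat.prime_two).1 (hpp.dvd_of_dvd_pow this)] at hp
  refine ⟨hC, ?_⟩
  classical
  have h3 : Fintype.card Kˣ = 3 := by rw [Fintype.card_units, hK]
  haveI : Nontrivial Kˣ := Fintype.one_lt_card_iff_nontrivial.1 (by omega)
  obtain ⟨u, hu⟩ := exists_ne (1 : Kˣ)
  have hu3 : (u : K) ^ 3 = 1 := by rw [← Units.val_pow_eq_pow_val, ← h3, pow_card_eq_one, Units.val_one]
  refine ⟨u, ?_⟩
  have h : ((u : K) - 1) * ((u : K) * u + u + 1) = 0 := by linear_combination hu3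
  rcases mul_eq_zero.1 h with h | h
  · exact absurd (Units.ext (sub_eq_zero.1 h)) hu
  · have h2 := add_eq_zero_iff_eq_neg.1 ((add_assoc _ _ _).symm.trans h)
    rwa [CharTwo.neg_eq] at h2

variable {K : Type*} [Field K] [CharP K 2] (ω : K) (hω : ω * ω = ω + 1)

theorem commutant_of_nodes (H : Subgroup (GL chevE6.Idx K))
    (hH : ∀ x : Fi22.Gen, x ≠ .a → genMap ω hω x ∈ H) (z : GL chevE6.Idx K) (hz : ∀ h ∈ H, z * h = h * z) :
    ∃ l : K, (z : Matrix chevE6.Idx chevE6.Idx K) = l • 1 := by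
  refine commutant ω hω _ fun i h1 h8 => ?_
  have key : ∀ x : Fi22.Gen, x ≠ .a → (z : Matrix chevE6.Idx chevE6.Idx K) * mat ω (nodeMats.getD (genIx x) oneC) =
      mat ω (nodeMats.getD (genIx x) oneC) * z := fun x hx => congrArg Units.val (hz _ (hH x hx))
  interval_cases i
  exacts [key .b (by decide), key .c (by decide), key .d (by decide), key .e (by decide), key .f (by decide),
    key .g (by decide), key .h (by decide), key .i (by decide)]

end Cfsg.Agent.Lib.Fi22TE6
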